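import Groth.Agent.Lib.NAH1.Basic

/-!
# Torsors with the same Čech class on a covering family are isomorphic
-/

universe w w' v u

open CategoryTheory Opposite
open Groth.Agent.Lib.NAH1.Basic

namespace Groth.Agent.Lib.NAH1.CechIso

variable {C : Type u} [Category.{v} C] {J : GrothendieckTopology C} {G : Sheaf J GrpCat.{w}}
  {I : Type w'} {U : I → C}

/-- `q` is the image of `p` under the morphism carrying the sections `s` to the sections `t`. -/
def Rel (P Q : NonAbH1.GSheaf G) (s : ∀ i, P.P.obj.obj (op (U i)))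
    (t : ∀ i, Q.P.obj.obj (op (U i))) {T : C} (p : P.P.obj.obj (op T)) (q : Q.P.obj.obj (op T)) :
    Prop :=
  ∀ (i : I) (V : C) (a : V ⟶ T) (b : V ⟶ U i) (g : G.obj.obj (op V)),
    P.smul g (P.P.obj.map b.op (s i)) = P.P.obj.map a.op p →
      Q.smul g (Q.P.obj.map b.op (t i)) = Q.P.obj.map a.op q

variable {P Q : NonAbH1.GSheaf G} {s : ∀ i, P.P.obj.obj (op (U i))}
  {t : ∀ i, Q.P.obj.obj (op (U i))}

theorem rel_map {T T' : C} (c : T' ⟶ T) {p : P.P.obj.obj (op T)} {q : Q.P.obj.obj (op T)}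
    (h : Rel P Q s t p q) : Rel P Q s t (P.P.obj.map c.op p) (Q.P.obj.map c.op q) := by
  intro i V a b g hg
  rw [map_comp_set] at hg ⊢
  exact h i V (a ≫ c) b g hg

theorem rel_smul {T : C} (k : G.obj.obj (op T)) {p : P.P.obj.obj (op T)} {q : Q.P.obj.obj (op T)}
    (h : Rel P Q s t p q) : Rel P Q s t (P.smul k p) (Q.smul k q) := by
  intro i V a b g hg
  rw [P.map_smul] at hg
  rw [Q.map_smul]
  have e : P.smul ((G.obj.map a.op k)⁻¹ * g) (P.P.obj.map b.op (s i)) = P.P.obj.map a.op p := by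
    rw [P.mul_smul, hg, ← P.mul_smul, inv_mul_cancel, P.one_smul]
  rw [← h i V a b _ e, ← Q.mul_smul, mul_inv_cancel_left]

theorem rel_symm (hP : P.IsPseudoTorsor) (hQ : Q.IsPseudoTorsor) {T : C} {p : P.P.obj.obj (op T)}
    {q : Q.P.obj.obj (op T)} (h : Rel P Q s t p q) : Rel Q P t s q p := by
  intro i V a b g hg
  have e := h i V a b _ (diff_smul P hP (P.P.obj.map b.op (s i)) (P.P.obj.map a.op p))
  rw [smul_right_cancel Q hQ _ (hg.trans e.symm)]
  exact diff_smul P hP _ _

/-- The relation is a function. -/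
theorem existsUnique_rel (hU : J.CoversTop U) (hP : P.IsPseudoTorsor)
    {γ : PresheafOfGroups.OneCocycle G.obj U} (hs : P.IsCocycleOf U s γ)
    (ht : Q.IsCocycleOf U t γ) {T : C} (p : P.P.obj.obj (op T)) :
    ∃! q : Q.P.obj.obj (op T), Rel P Q s t p q := by
  have indep : ∀ {V : C} (i j : I) (b : V ⟶ U i) (b' : V ⟶ U j) (g g' : G.obj.obj (op V)),
      P.smul g (P.P.obj.map b.op (s i)) = P.smul g' (P.P.obj.map b'.op (s j)) →
        Q.smul g (Q.P.obj.map b.op (t i)) = Q.smul g' (Q.P.obj.map b'.op (t j)) := by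
    intro V i j b b' g g' h
    rw [← hs i j b b', ← P.mul_smul] at h
    rw [← ht i j b b', ← Q.mul_smul, smul_right_cancel P hP _ h]
  choose i b using fun (V : C) (a : V ⟶ T) (h : (Sieve.ofObjects U T).arrows a) => h
  let x : ∀ ⦃V : C⦄ (a : V ⟶ T), Sieve.ofObjects U T a → Q.P.obj.obj (op V) := fun V a h =>
    Q.smul (diff P hP (P.P.obj.map (b V a h).some.op (s _)) (P.P.obj.map a.op p))
      (Q.P.obj.map (b V a h).some.op (t (i V a h)))
  obtain ⟨q, hq, huniq⟩ := existsUnique_glue Q.P (Sieve.ofObjects U T) (hU T) x (fun V W c a h => by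
    simp only [x]
    rw [Q.map_smul, map_comp_set]
    apply indep
    rw [← map_comp_set P.P.obj (b V a h).some c, ← P.map_smul, diff_smul, diff_smul,
      map_comp_set])
  refine ⟨q, fun j V a c g hg => ?_, fun q' hq' => huniq q' fun V a h => ?_⟩
  · rw [hq a ⟨j, ⟨c⟩⟩]
    apply indep
    rw [hg, diff_smul]
  · exact (hq' _ V a (b V a h).some _ (diff_smul P hP _ _)).symm

/-- Torsors with sections cutting out the same cocycle are isomorphic. -/
theorem nonempty_iso (hU : J.CoversTop U) (hP : P.IsPseudoTorsor) (hQ : Q.IsPseudoTorsor)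
    {γ : PresheafOfGroups.OneCocycle G.obj U} (hs : P.IsCocycleOf U s γ)
    (ht : Q.IsCocycleOf U t γ) : Nonempty (P ≅ Q) := by
  choose f hf hfu using fun (T : C) (p : P.P.obj.obj (op T)) => existsUnique_rel hU hP hs ht p
  choose g hg hgu using fun (T : C) (q : Q.P.obj.obj (op T)) => existsUnique_rel hU hQ ht hs q
  let φ : P ⟶ Q :=
    { hom := ⟨{ app := fun T => ↾ f T.unop
                naturality := fun T T' c => by
                  ext p
                  exact (hfu _ _ _ (rel_map c.unop (hf _ p))).symm }⟩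
      map_smul := fun {T} k p => (hfu _ _ _ (rel_smul k (hf _ p))).symm }
  let ψ : Q ⟶ P :=
    { hom := ⟨{ app := fun T => ↾ g T.unop
                naturality := fun T T' c => by
                  ext q
                  exact (hgu _ _ _ (rel_map c.unop (hg _ q))).symm }⟩
      map_smul := fun {T} k q => (hgu _ _ _ (rel_smul k (hg _ q))).symm }
  exact ⟨⟨φ, ψ, by ext T p; exact (hgu _ _ _ (rel_symm hP hQ (hf _ p))).symm,
    by ext T q; exact (hfu _ _ _ (rel_symm hQ hP (hg _ q))).symm⟩⟩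

end Groth.Agent.Lib.NAH1.CechIso
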