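import Groth.Prelude.Def_NonAbH1
import Mathlib.Algebra.Category.Grp.ForgetCorepresentable
import Mathlib.CategoryTheory.Sites.CoversTop.Basic

/-!
# Sheaves of sets with an action of a sheaf of groups: gluing and differences
-/

universe w w' v u

open CategoryTheory Opposite

namespace Groth.Agent.Lib.NAH1.Basic

variable {C : Type u} [Category.{v} C] {J : GrothendieckTopology C}

/-- The sheaf condition in elementary form. -/
theorem existsUnique_glue_presheaf {P : Cᵒᵖ ⥤ Type w} {T : C} (S : Sieve T)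
    (hP : Presieve.IsSheafFor P S.arrows)
    (x : ∀ ⦃V : C⦄ (a : V ⟶ T), S a → P.obj (op V))
    (hx : ∀ ⦃V W : C⦄ (c : W ⟶ V) (a : V ⟶ T) (h : S a),
      P.map c.op (x a h) = x (c ≫ a) (S.downward_closed h c)) :
    ∃! t : P.obj (op T), ∀ ⦃V : C⦄ (a : V ⟶ T) (h : S a), P.map a.op t = x a h := by
  have hc : (show Presieve.FamilyOfElements P S.arrows from x).Compatible :=
    (Presieve.compatible_iff_sieveCompatible _).mpr fun V W f g hf => (hx g f hf).symm
  exact hP _ hc

/-- Gluing for a sheaf of sets. -/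
theorem existsUnique_glue (P : Sheaf J (Type w)) {T : C} (S : Sieve T) (hS : S ∈ J T)
    (x : ∀ ⦃V : C⦄ (a : V ⟶ T), S a → P.obj.obj (op V))
    (hx : ∀ ⦃V W : C⦄ (c : W ⟶ V) (a : V ⟶ T) (h : S a),
      P.obj.map c.op (x a h) = x (c ≫ a) (S.downward_closed h c)) :
    ∃! t : P.obj.obj (op T), ∀ ⦃V : C⦄ (a : V ⟶ T) (h : S a), P.obj.map a.op t = x a h :=
  existsUnique_glue_presheaf S (P.property.isSheafFor S hS) x hx

/-- Two sections agreeing on a covering sieve are equal. -/
theorem ext_on_sieve (P : Sheaf J (Type w)) {T : C} (S : Sieve T) (hS : S ∈ J T)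
    {t t' : P.obj.obj (op T)}
    (h : ∀ ⦃V : C⦄ (a : V ⟶ T), S a → P.obj.map a.op t = P.obj.map a.op t') : t = t' :=
  (existsUnique_glue P S hS (fun _ a _ => P.obj.map a.op t') (fun _ _ c a _ => by
    show _ = P.obj.map (c ≫ a).op t'
    rw [op_comp, Functor.map_comp]; rfl)).unique (fun _ a ha => h a ha) (fun _ _ _ => rfl)

/-- A sheaf of groups is a sheaf of sets. -/
theorem isSheaf_grp_forget (G : Sheaf J GrpCat.{w}) :
    Presieve.IsSheaf J (G.obj ⋙ forget GrpCat.{w}) :=
  Presieve.isSheaf_iso J (Functor.isoWhiskerLeft G.obj GrpCat.coyonedaObjIsoForget)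
    (G.property _)

/-- Gluing for a sheaf of groups. -/
theorem existsUnique_glue_grp (G : Sheaf J GrpCat.{w}) {T : C} (S : Sieve T) (hS : S ∈ J T)
    (x : ∀ ⦃V : C⦄ (a : V ⟶ T), S a → G.obj.obj (op V))
    (hx : ∀ ⦃V W : C⦄ (c : W ⟶ V) (a : V ⟶ T) (h : S a),
      G.obj.map c.op (x a h) = x (c ≫ a) (S.downward_closed h c)) :
    ∃! t : G.obj.obj (op T), ∀ ⦃V : C⦄ (a : V ⟶ T) (h : S a), G.obj.map a.op t = x a h :=
  existsUnique_glue_presheaf (P := G.obj ⋙ forget GrpCat.{w}) S (isSheaf_grp_forget G S hS) x hx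

/-- Composition of restriction maps of a sheaf of groups. -/
theorem map_comp_grp (G : Cᵒᵖ ⥤ GrpCat.{w}) {U V W : C} (f : V ⟶ U) (g : W ⟶ V)
    (x : G.obj (op U)) : G.map g.op (G.map f.op x) = G.map (g ≫ f).op x := by
  rw [op_comp, Functor.map_comp]; rfl

/-- Composition of restriction maps of a sheaf of sets. -/
theorem map_comp_set (P : Cᵒᵖ ⥤ Type w) {U V W : C} (f : V ⟶ U) (g : W ⟶ V)
    (x : P.obj (op U)) : P.map g.op (P.map f.op x) = P.map (g ≫ f).op x := by
  rw [op_comp, Functor.map_comp]; rfl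

/-- Two sections of a sheaf of groups agreeing on a covering sieve are equal. -/
theorem ext_on_sieve_grp (G : Sheaf J GrpCat.{w}) {T : C} (S : Sieve T) (hS : S ∈ J T)
    {t t' : G.obj.obj (op T)}
    (h : ∀ ⦃V : C⦄ (a : V ⟶ T), S a → G.obj.map a.op t = G.obj.map a.op t') : t = t' :=
  (existsUnique_glue_grp G S hS (fun _ a _ => G.obj.map a.op t')
    (fun _ _ c a _ => map_comp_grp _ a c t')).unique (fun _ a ha => h a ha) (fun _ _ _ => rfl)

variable {G : Sheaf J GrpCat.{w}} (P : NonAbH1.GSheaf G)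

/-- Cancellation in a pseudo-torsor. -/
theorem smul_right_cancel (hP : P.IsPseudoTorsor) {U : Cᵒᵖ} {g g' : G.obj.obj U}
    (p : P.P.obj.obj U) (h : P.smul g p = P.smul g' p) : g = g' :=
  (hP U p (P.smul g' p)).unique h rfl

/-- The element carrying `p` to `q` in a pseudo-torsor. -/
noncomputable def diff (hP : P.IsPseudoTorsor) {U : Cᵒᵖ} (p q : P.P.obj.obj U) : G.obj.obj U :=
  (hP U p q).exists.choose

/-- The defining property of `diff`. -/
theorem diff_smul (hP : P.IsPseudoTorsor) {U : Cᵒᵖ} (p q : P.P.obj.obj U) :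
    P.smul (diff P hP p q) p = q :=
  (hP U p q).exists.choose_spec

/-- Any family of sections of a pseudo-torsor cuts out a unique cocycle. -/
theorem exists_isCocycleOf (hP : P.IsPseudoTorsor) {I : Type w'} (U : I → C)
    (s : ∀ i, P.P.obj.obj (op (U i))) :
    ∃ γ : PresheafOfGroups.OneCocycle G.obj U, P.IsCocycleOf U s γ := by
  refine ⟨{ ev := fun i j T a b => diff P hP (P.P.obj.map b.op (s j)) (P.P.obj.map a.op (s i))
            ev_precomp := fun i j T T' φ a b => ?_
            ev_trans := fun i j k T a b c => ?_ }, fun i j T a b => diff_smul P hP _ _⟩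
  · apply smul_right_cancel P hP (P.P.obj.map φ.op (P.P.obj.map b.op (s j)))
    rw [← P.map_smul, diff_smul, map_comp_set, map_comp_set]
    exact (diff_smul P hP _ _).symm
  · apply smul_right_cancel P hP (P.P.obj.map c.op (s k))
    rw [P.mul_smul, diff_smul, diff_smul, diff_smul]

/-- Changing the sections by a zero-cochain gives the cohomologous cocycle. -/
theorem oneCohomologyRelation_of_smul (hP : P.IsPseudoTorsor) {I : Type w'} {U : I → C}
    {s s' : ∀ i, P.P.obj.obj (op (U i))} {γ γ' : PresheafOfGroups.OneCocycle G.obj U}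
    (hγ : P.IsCocycleOf U s γ) (hγ' : P.IsCocycleOf U s' γ')
    (α : ∀ i, G.obj.obj (op (U i))) (hα : ∀ i, P.smul (α i) (s i) = s' i) :
    PresheafOfGroups.OneCohomologyRelation γ.toOneCochain γ'.toOneCochain α := by
  intro i j T a b
  apply smul_right_cancel P hP (P.P.obj.map b.op (s j))
  rw [P.mul_smul, P.mul_smul, hγ i j a b, ← P.map_smul, hα, ← P.map_smul, hα, hγ' i j a b]

/-- `HasCechClass` determines the class. -/
theorem hasCechClass_unique (hP : P.IsPseudoTorsor) {I : Type w'} {U : I → C}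
    {c c' : PresheafOfGroups.H1 G.obj U} (h : P.HasCechClass U c) (h' : P.HasCechClass U c') :
    c = c' := by
  obtain ⟨s, γ, hγ, rfl⟩ := h
  obtain ⟨s', γ', hγ', rfl⟩ := h'
  exact PresheafOfGroups.OneCocycle.IsCohomologous.class_eq
    ⟨fun i => diff P hP (s i) (s' i),
      oneCohomologyRelation_of_smul P hP hγ hγ' _ fun i => diff_smul P hP _ _⟩

/-- One can change the sections so as to reach any cocycle of the class. -/
theorem exists_sections_of_hasCechClass {I : Type w'} {U : I → C}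
    (γ' : PresheafOfGroups.OneCocycle G.obj U) (h : P.HasCechClass U γ'.class) :
    ∃ s, P.IsCocycleOf U s γ' := by
  obtain ⟨s, γ, hγ, hc⟩ := h
  obtain ⟨α, hα⟩ := (PresheafOfGroups.OneCocycle.class_eq_iff γ γ').mp hc
  refine ⟨fun i => P.smul (α i) (s i), fun i j T a b => ?_⟩
  rw [P.map_smul, P.map_smul, ← P.mul_smul, ← hα i j a b, P.mul_smul, hγ i j a b]

end Groth.Agent.Lib.NAH1.Basic
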