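import Groth.Agent.Lib.NAH1.Basic
import Mathlib.Logic.Small.Basic
import Mathlib.CategoryTheory.Sites.Sheaf

/-!
# The torsor attached to a Čech cocycle
-/

universe w w' v u

open CategoryTheory Opposite
open Groth.Agent.Lib.NAH1.Basic

namespace Groth.Agent.Lib.NAH1.CechTorsor

variable {C : Type u} [Category.{v} C] {J : GrothendieckTopology C} {G : Sheaf J GrpCat.{w}}
  {I : Type w'} {U : I → C} (γ : PresheafOfGroups.OneCocycle G.obj U)

/-- A section over `T` of the torsor of the cocycle `γ`. -/
@[ext]
structure Datum (T : C) where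
  /-- the coordinates -/
  x : ∀ (i : I) (V : C) (_ : V ⟶ T) (_ : V ⟶ U i), G.obj.obj (op V)
  nat : ∀ (i : I) (V W : C) (c : W ⟶ V) (a : V ⟶ T) (b : V ⟶ U i),
    G.obj.map c.op (x i V a b) = x i W (c ≫ a) (c ≫ b)
  cocyc : ∀ (i j : I) (V : C) (a : V ⟶ T) (b : V ⟶ U i) (b' : V ⟶ U j),
    x i V a b * γ.ev i j b b' = x j V a b'

/-- Restriction. -/
def res {T T' : C} (f : T' ⟶ T) (d : Datum γ T) : Datum γ T' where
  x i V a b := d.x i V (a ≫ f) b
  nat i V W c a b := by rw [d.nat, Category.assoc]
  cocyc i j V a b b' := d.cocyc i j V _ b b'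

/-- The action. -/
def act {T : C} (g : G.obj.obj (op T)) (d : Datum γ T) : Datum γ T where
  x i V a b := G.obj.map a.op g * d.x i V a b
  nat i V W c a b := by rw [map_mul, d.nat, map_comp_grp]
  cocyc i j V a b b' := by rw [mul_assoc, d.cocyc]

theorem map_id_grp (T : C) (g : G.obj.obj (op T)) : G.obj.map (𝟙 T).op g = g := by
  rw [op_id, CategoryTheory.Functor.map_id]; rfl

variable (hU : J.CoversTop U)

include hU in
theorem act_bijective {T : C} (d : Datum γ T) : Function.Bijective (fun g => act γ g d) := by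
  constructor
  · intro g g' h
    refine ext_on_sieve_grp G _ (hU T) fun V a ha => ?_
    obtain ⟨i, ⟨b⟩⟩ := ha
    exact mul_right_cancel (congrArg (fun e : Datum γ T => e.x i V a b) h)
  · intro d'
    have indep : ∀ (V : C) (a : V ⟶ T) (i j : I) (b : V ⟶ U i) (b' : V ⟶ U j),
        d'.x i V a b * (d.x i V a b)⁻¹ = d'.x j V a b' * (d.x j V a b')⁻¹ := by
      intro V a i j b b'
      rw [← d'.cocyc i j V a b b', ← d.cocyc i j V a b b']
      rw [mul_inv_rev, mul_assoc, mul_inv_cancel_left]
    choose i b using fun (V : C) (a : V ⟶ T) (h : (Sieve.ofObjects U T).arrows a) => h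
    obtain ⟨g, hg, -⟩ := existsUnique_glue_grp G (Sieve.ofObjects U T) (hU T)
      (fun V a h => d'.x _ V a (b V a h).some * (d.x _ V a (b V a h).some)⁻¹)
      (fun V W c a h => by
        simp only [map_mul, map_inv, d'.nat, d.nat]
        exact indep _ _ _ _ _ _)
    refine ⟨g, Datum.ext ?_⟩
    funext j V a c
    show G.obj.map a.op g * d.x j V a c = _
    rw [hg a ⟨j, ⟨c⟩⟩, indep V a _ j _ c, inv_mul_cancel_right]

include hU in
theorem small_datum (T : C) : Small.{w} (Datum γ T) := by
  rcases isEmpty_or_nonempty (Datum γ T) with h | ⟨⟨d⟩⟩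
  · infer_instance
  · exact small_of_surjective (act_bijective γ hU d).2

/-- The sheaf of the torsor. -/
noncomputable def presheaf : Cᵒᵖ ⥤ Type w :=
  haveI := small_datum γ hU
  { obj := fun T => Shrink.{w} (Datum γ T.unop)
    map := fun {T T'} f => ↾fun d => equivShrink _ (res γ f.unop ((equivShrink _).symm d))
    map_id := fun T => by
      ext d i V a b
      simp [res]
    map_comp := fun {T T' T''} f f' => by
      ext d i V a b
      simp [res] }

theorem isSheaf_presheaf : Presheaf.IsSheaf J (presheaf γ hU) := by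
  have := small_datum γ hU
  rw [isSheaf_iff_isSheaf_of_type]
  intro T R hR x hx
  let y : ∀ ⦃V : C⦄ (a : V ⟶ T), R a → Datum γ V := fun V a h => (equivShrink _).symm (x a h)
  have hy : ∀ ⦃V W : C⦄ (c : W ⟶ V) (a : V ⟶ T) (h : R a),
      res γ c (y a h) = y (c ≫ a) (R.downward_closed h c) := by
    intro V W c a h
    have := ((Presieve.compatible_iff_sieveCompatible _).mp hx) a c h
    apply (equivShrink _).injective
    simp only [y]
    exact this.symm.trans (Equiv.apply_symm_apply _ _).symm
  have hy' : ∀ (i : I) (V : C) (a : V ⟶ T) (h : R a) (a' : V ⟶ T) (_ : a = a') (h' : R a')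
      (b : V ⟶ U i), (y a h).x i V (𝟙 V) b = (y a' h').x i V (𝟙 V) b := by
    intros; subst_vars; rfl
  -- evaluation of the family after pulling back
  have key : ∀ (i : I) (V : C) (a : V ⟶ T) (b : V ⟶ U i), ∃! g : G.obj.obj (op V),
      ∀ ⦃W : C⦄ (c : W ⟶ V) (h : R.pullback a c),
        G.obj.map c.op g = (y (c ≫ a) h).x i W (𝟙 W) (c ≫ b) := by
    intro i V a b
    refine existsUnique_glue_grp G _ (J.pullback_stable a hR)
      (fun W c h => (y (c ≫ a) h).x i W (𝟙 W) (c ≫ b)) (fun W W' e c h => ?_)
    show G.obj.map e.op _ = (y ((e ≫ c) ≫ a) _).x i W' (𝟙 W') ((e ≫ c) ≫ b)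
    rw [(y (c ≫ a) h).nat, Category.comp_id]
    have h2 := congrArg (fun d : Datum γ W' => d.x i W' (𝟙 W') (e ≫ c ≫ b)) (hy e (c ≫ a) h)
    simp only [res, Category.id_comp] at h2
    rw [h2, Category.assoc e c b]
    exact hy' i W' _ _ _ (Category.assoc _ _ _).symm _ _
  choose z hz hzu using key
  let d : Datum γ T :=
    { x := z
      nat := fun i V W c a b => hzu i W (c ≫ a) (c ≫ b) _ fun W' e h => by
        have h' : R.pullback a (e ≫ c) := by
          show R ((e ≫ c) ≫ a); rw [Category.assoc]; exact h
        beta_reduce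
        rw [map_comp_grp, hz i V a b (e ≫ c) h', Category.assoc e c b]
        exact hy' i W' _ _ _ (Category.assoc _ _ _) _ _
      cocyc := fun i j V a b b' => hzu j V a b' _ fun W c h => by
        beta_reduce
        rw [map_mul, hz i V a b c h, γ.ev_precomp, (y (c ≫ a) h).cocyc] }
  have hd : ∀ ⦃V : C⦄ (a : V ⟶ T) (h : R a), res γ a d = y a h := by
    intro V a h
    apply Datum.ext
    funext i W c b
    refine (hzu i W (c ≫ a) b _ fun W' e he => ?_).symm
    beta_reduce
    rw [(y a h).nat]
    have h2 := congrArg (fun d : Datum γ W' => d.x i W' (𝟙 W') (e ≫ b)) (hy (e ≫ c) a h)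
    simp only [res, Category.id_comp] at h2
    rw [h2]
    exact hy' i W' _ _ _ (Category.assoc _ _ _) _ _
  refine ⟨equivShrink _ d, fun V a h => ?_, fun e he => ?_⟩
  · show equivShrink _ (res γ a ((equivShrink _).symm (equivShrink _ d))) = _
    rw [Equiv.symm_apply_apply, hd a h]
    exact Equiv.apply_symm_apply _ _
  · apply (equivShrink _).symm.injective
    rw [Equiv.symm_apply_apply]
    apply Datum.ext
    funext i V a b
    refine hzu i V a b _ fun W c h => ?_
    beta_reduce
    rw [((equivShrink _).symm e).nat]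
    have h1 : res γ (c ≫ a) ((equivShrink _).symm e) = y (c ≫ a) h := by
      apply (equivShrink _).injective
      simp only [y]
      exact (he (c ≫ a) h).trans (Equiv.apply_symm_apply _ _).symm
    have := congrArg (fun d : Datum γ W => d.x i W (𝟙 W) (c ≫ b)) h1
    simpa [res] using this

/-- The torsor attached to a cocycle. -/
noncomputable def gsheaf : NonAbH1.GSheaf G :=
  haveI := small_datum γ hU
  { P := ⟨presheaf γ hU, isSheaf_presheaf γ hU⟩
    smul := fun {T} g d => equivShrink _ (act γ g ((equivShrink _).symm d))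
    one_smul := fun d => by
      apply (equivShrink _).symm.injective
      apply Datum.ext
      funext i V a b
      simp [act]
    mul_smul := fun g h d => by
      apply (equivShrink _).symm.injective
      apply Datum.ext
      funext i V a b
      simp [act, mul_assoc]
    map_smul := fun {T T'} f g d => by
      show equivShrink _ (res γ f.unop ((equivShrink _).symm (equivShrink _
          (act γ g ((equivShrink _).symm d))))) =
        equivShrink _ (act γ (G.obj.map f g) ((equivShrink _).symm
          (equivShrink _ (res γ f.unop ((equivShrink _).symm d)))))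
      simp only [Equiv.symm_apply_apply]
      congr 1
      apply Datum.ext
      funext i V a b
      show G.obj.map (a ≫ f.unop).op g * _ = G.obj.map a.op (G.obj.map f.unop.op g) * _
      rw [map_comp_grp]
      rfl }

theorem isTorsor_gsheaf : (gsheaf γ hU).IsTorsor := by
  have := small_datum γ hU
  refine ⟨fun T p q => ?_, fun T => ⟨Sieve.ofObjects U T, hU T, fun V f hf => ?_⟩⟩
  · obtain ⟨g, hg, hu⟩ := (act_bijective γ hU ((equivShrink _).symm p)).existsUnique
      ((equivShrink _).symm q)
    beta_reduce at hg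
    refine ⟨g, (congrArg (equivShrink _) hg).trans (Equiv.apply_symm_apply _ _), fun g' hg' => hu g' ?_⟩
    apply (equivShrink _).injective
    exact hg'.trans (Equiv.apply_symm_apply _ _).symm
  · obtain ⟨k, ⟨c⟩⟩ := hf
    exact ⟨equivShrink _
      { x := fun i W a b => γ.ev k i (a ≫ c) b
        nat := fun i W W' e a b => by rw [γ.ev_precomp, Category.assoc]
        cocyc := fun i j W a b b' => γ.ev_trans _ _ _ _ _ _ }⟩

theorem trivialisedBy_hasCechClass : (gsheaf γ hU).TrivialisedBy U ∧
    (gsheaf γ hU).HasCechClass U γ.class := by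
  have := small_datum γ hU
  let s : ∀ k, Datum γ (U k) := fun k =>
    { x := fun i W a b => γ.ev k i a b
      nat := fun i W W' e a b => γ.ev_precomp _ _ _ _ _
      cocyc := fun i j W a b b' => γ.ev_trans _ _ _ _ _ _ }
  refine ⟨fun k => ⟨equivShrink _ (s k)⟩, fun k => equivShrink _ (s k), γ, fun i j T a b => ?_, rfl⟩
  show equivShrink _ (act γ (γ.ev i j a b) ((equivShrink _).symm
    (equivShrink _ (res γ b ((equivShrink _).symm (equivShrink _ (s j))))))) =
    equivShrink _ (res γ a ((equivShrink _).symm (equivShrink _ (s i))))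
  simp only [Equiv.symm_apply_apply]
  congr 1
  apply Datum.ext
  funext k W c d
  show G.obj.map c.op (γ.ev i j a b) * γ.ev j k (c ≫ b) d = γ.ev i k (c ≫ a) d
  rw [γ.ev_precomp, γ.ev_trans]

end Groth.Agent.Lib.NAH1.CechTorsor
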