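import Groth.Agent.Lib.NAH1.Basic

/-!
# The boundary of a section of a quotient sheaf `G/F`
-/

universe w w' v u

open CategoryTheory Opposite
open Groth.Agent.Lib.NAH1.Basic

namespace Groth.Agent.Lib.NAH1.Fibre

variable {C : Type u} [Category.{v} C] {J : GrothendieckTopology C}
  [J.HasSheafCompose (forget GrpCat.{w})] {F G : Sheaf J GrpCat.{w}} (u : F ⟶ G)
  {Q : NonAbH1.GSheaf G} (π : NonAbH1.GSheaf.trivial G ⟶ Q)

/-- `π` on sections, as a function on the group. -/
abbrev pi' {U : Cᵒᵖ} (g : G.obj.obj U) : Q.P.obj.obj U :=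
  π.hom.hom.app U (NonAbH1.GSheaf.ofGrp g)

theorem pi_natural {U V : Cᵒᵖ} (f : U ⟶ V) (g : G.obj.obj U) :
    pi' π (G.obj.map f g) = Q.P.obj.map f (pi' π g) :=
  (NatTrans.naturality_apply π.hom.hom f (NonAbH1.GSheaf.ofGrp g))

theorem pi_smul {U : Cᵒᵖ} (g h : G.obj.obj U) : pi' π (g * h) = Q.smul g (pi' π h) :=
  π.map_smul g (NonAbH1.GSheaf.ofGrp h)

theorem u_natural {U V : Cᵒᵖ} (f : U ⟶ V) (x : F.obj.obj U) :
    u.hom.app V (F.obj.map f x) = G.obj.map f (u.hom.app U x) :=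
  NatTrans.naturality_apply u.hom f x

section construction

variable (hQ : NonAbH1.GSheaf.IsQuotientBy u π) (c : Q.P.obj.sections)

/-- The presheaf of liftings. -/
def presheaf : Cᵒᵖ ⥤ Type w where
  obj U := {g : G.obj.obj U // pi' π g = c.1 U}
  map {U V} f := ↾fun g => ⟨G.obj.map f g.1, by rw [pi_natural, g.2]; exact c.2 f⟩
  map_id U := by
    ext g
    show G.obj.map (𝟙 U) g.1 = g.1
    rw [CategoryTheory.Functor.map_id]; rfl
  map_comp f f' := by
    ext g
    show G.obj.map (f ≫ f') g.1 = G.obj.map f' (G.obj.map f g.1)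
    rw [Functor.map_comp]; rfl

theorem isSheaf_presheaf : Presheaf.IsSheaf J (presheaf π c) := by
  rw [isSheaf_iff_isSheaf_of_type]
  intro T R hR x hx
  have hx' := (Presieve.compatible_iff_sieveCompatible _).mp hx
  obtain ⟨g, hg, hu⟩ := existsUnique_glue_grp G R hR (fun V a h => (x a h).1)
    (fun V W d a h => (congrArg Subtype.val (hx' a d h)).symm)
  have hmem : pi' π g = c.1 (op T) := ext_on_sieve Q.P R hR fun V a h => by
    rw [← pi_natural, hg a h, (x a h).2]
    exact (c.2 a.op).symm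
  exact ⟨⟨g, hmem⟩, fun V a h => Subtype.ext (hg a h),
    fun e he => Subtype.ext (hu e.1 fun V a h => congrArg Subtype.val (he a h))⟩

include hQ in
theorem act_mem {U : Cᵒᵖ} (f : F.obj.obj U) (g : G.obj.obj U) :
    pi' π (g * (u.hom.app U f)⁻¹) = pi' π g :=
  (hQ.1 U _ _).mpr ⟨f, (inv_mul_cancel_right _ _).symm⟩

/-- The sheaf of liftings with the action of `F`. -/
def fibre : NonAbH1.GSheaf F where
  P := ⟨presheaf π c, isSheaf_presheaf π c⟩
  smul {U} f g := (⟨g.1 * (u.hom.app U f)⁻¹, (act_mem u π hQ f g.1).trans g.2⟩ :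
    {g : G.obj.obj U // pi' π g = c.1 U})
  one_smul g := Subtype.ext (by simp)
  mul_smul f f' g := Subtype.ext (by simp [mul_assoc])
  map_smul {U V} a f g := Subtype.ext (by
    show G.obj.map a (g.1 * _) = G.obj.map a g.1 * (u.hom.app V (F.obj.map a f))⁻¹
    rw [map_mul, map_inv, u_natural])

theorem isFibreOver_fibre : NonAbH1.GSheaf.IsFibreOver u π c (fibre u π hQ c) := by
  refine ⟨⟨{ app := fun U => ↾fun g => NonAbH1.GSheaf.ofGrp g.1 }⟩,
    fun U a b h => Subtype.ext h, fun U g => ⟨?_, fun h => ⟨⟨g, h⟩, rfl⟩⟩, fun U f t => rfl⟩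
  rintro ⟨t, rfl⟩
  exact t.2

end construction

variable {u π}

/-- A sheaf of liftings is a torsor. -/
theorem isTorsor_of_isFibreOver (hu : ∀ U : Cᵒᵖ, Function.Injective (u.hom.app U))
    (hQ : NonAbH1.GSheaf.IsQuotientBy u π) {c : Q.P.obj.sections} {T : NonAbH1.GSheaf F}
    (hT : NonAbH1.GSheaf.IsFibreOver u π c T) : T.IsTorsor := by
  obtain ⟨ι, hinj, himg, heq⟩ := hT
  constructor
  · intro U t t'
    have h1 := (himg U _).mp ⟨t, rfl⟩
    have h2 := (himg U _).mp ⟨t', rfl⟩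
    obtain ⟨f, hf⟩ := (hQ.1 U _ _).mp (h1.trans h2.symm)
    refine ⟨f⁻¹, hinj U ?_, fun f' hf' => hu U ?_⟩
    · exact (heq U f⁻¹ t).trans (by rw [map_inv, inv_inv]; exact hf.symm)
    · rw [map_inv]
      have h := (heq U f' t).symm.trans
        ((congrArg (fun z => NonAbH1.GSheaf.toGrp (ι.hom.app U z)) hf').trans hf)
      exact inv_eq_iff_eq_inv.mp (mul_left_cancel h)
  · intro U
    obtain ⟨S, hS, h⟩ := hQ.2 U (c.1 (op U))
    refine ⟨S, hS, fun V a ha => ?_⟩
    obtain ⟨g, hg⟩ := h a ha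
    obtain ⟨t, -⟩ := (himg (op V) g).mpr (hg.trans (c.2 a.op))
    exact ⟨t⟩

/-- A family of maps commuting with restriction gives a morphism of `G`-sheaves. -/
def homMk {P P' : NonAbH1.GSheaf F} (φ : ∀ U, P.P.obj.obj U → P'.P.obj.obj U)
    (hn : ∀ U V (a : U ⟶ V) p, φ V (P.P.obj.map a p) = P'.P.obj.map a (φ U p))
    (hs : ∀ U f p, φ U (P.smul f p) = P'.smul f (φ U p)) : P ⟶ P' where
  hom := ⟨{ app := fun U => ↾ φ U, naturality := fun U V a => by ext p; exact hn U V a p }⟩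
  map_smul {U} f p := hs U f p

/-- Two sheaves of liftings related by left translation by a global section of `G` are
isomorphic. -/
theorem nonempty_iso_of_translate {c c' : Q.P.obj.sections} {T T' : NonAbH1.GSheaf F}
    (hT : NonAbH1.GSheaf.IsFibreOver u π c T) (hT' : NonAbH1.GSheaf.IsFibreOver u π c' T')
    (g : ∀ U, G.obj.obj U) (hg : ∀ U V (a : U ⟶ V), G.obj.map a (g U) = g V)
    (hgc : ∀ U, Q.smul (g U) (c.1 U) = c'.1 U) : Nonempty (T ≅ T') := by
  obtain ⟨ι, hinj, himg, heq⟩ := hT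
  obtain ⟨ι', hinj', himg', heq'⟩ := hT'
  have ha : ∀ U (t : T.P.obj.obj U),
      pi' π (g U * NonAbH1.GSheaf.toGrp (ι.hom.app U t)) = c'.1 U := fun U t => by
    rw [pi_smul, show pi' π (NonAbH1.GSheaf.toGrp (ι.hom.app U t)) = c.1 U from
      (himg U _).mp ⟨t, rfl⟩, hgc]
  have hb : ∀ U (t : T'.P.obj.obj U),
      pi' π ((g U)⁻¹ * NonAbH1.GSheaf.toGrp (ι'.hom.app U t)) = c.1 U := fun U t => by
    rw [pi_smul, show pi' π (NonAbH1.GSheaf.toGrp (ι'.hom.app U t)) = c'.1 U from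
      (himg' U _).mp ⟨t, rfl⟩, ← hgc, ← Q.mul_smul, inv_mul_cancel, Q.one_smul]
  choose φ hφ using fun U t => (himg' U _).mpr (ha U t)
  choose ψ hψ using fun U t => (himg U _).mpr (hb U t)
  have nat : ∀ U V (a : U ⟶ V) t, NonAbH1.GSheaf.toGrp (ι.hom.app V (T.P.obj.map a t)) =
      G.obj.map a (NonAbH1.GSheaf.toGrp (ι.hom.app U t)) :=
    fun U V a t => NatTrans.naturality_apply ι.hom a t
  have nat' : ∀ U V (a : U ⟶ V) t, NonAbH1.GSheaf.toGrp (ι'.hom.app V (T'.P.obj.map a t)) =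
      G.obj.map a (NonAbH1.GSheaf.toGrp (ι'.hom.app U t)) :=
    fun U V a t => NatTrans.naturality_apply ι'.hom a t
  refine ⟨⟨homMk φ (fun U V a t => hinj' V ?_) (fun U f t => hinj' U ?_),
    homMk ψ (fun U V a t => hinj V ?_) (fun U f t => hinj U ?_), ?_, ?_⟩⟩
  · exact (hφ V _).trans ((congrArg (g V * ·) (nat U V a t)).trans (Eq.symm
      ((nat' U V a _).trans (by rw [hφ, map_mul, hg]))))
  · exact (hφ U _).trans ((congrArg (g U * ·) (heq U f t)).trans (Eq.symm
      ((heq' U f _).trans (by rw [hφ, mul_assoc]))))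
  · exact (hψ V _).trans ((congrArg ((g V)⁻¹ * ·) (nat' U V a t)).trans (Eq.symm
      ((nat U V a _).trans (by rw [hψ, map_mul, map_inv, hg]))))
  · exact (hψ U _).trans ((congrArg ((g U)⁻¹ * ·) (heq' U f t)).trans (Eq.symm
      ((heq U f _).trans (by rw [hψ, mul_assoc]))))
  · ext U t
    apply hinj U
    exact (hψ U _).trans ((congrArg ((g U)⁻¹ * ·) (hφ U t)).trans (inv_mul_cancel_left _ _))
  · ext U t
    apply hinj' U
    exact (hφ U _).trans ((congrArg (g U * ·) (hψ U t)).trans (mul_inv_cancel_left _ _))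

/-- Two sheaves of liftings of the same section are isomorphic. -/
theorem nonempty_iso {c : Q.P.obj.sections} {T T' : NonAbH1.GSheaf F}
    (hT : NonAbH1.GSheaf.IsFibreOver u π c T) (hT' : NonAbH1.GSheaf.IsFibreOver u π c T') :
    Nonempty (T ≅ T') :=
  nonempty_iso_of_translate hT hT' (fun _ => 1) (fun _ _ _ => map_one _) fun _ => Q.one_smul _

/-- Isomorphic sheaves of liftings differ by a translation by a global section of `G`. -/
theorem exists_translate_of_iso (hu : ∀ U : Cᵒᵖ, Function.Injective (u.hom.app U))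
    (hQ : NonAbH1.GSheaf.IsQuotientBy u π) {c c' : Q.P.obj.sections} {T T' : NonAbH1.GSheaf F}
    (hT : NonAbH1.GSheaf.IsFibreOver u π c T) (hT' : NonAbH1.GSheaf.IsFibreOver u π c' T')
    (e : T ≅ T') :
    ∃ g : (NonAbH1.GSheaf.uSh G).obj.sections,
      ∀ U, Q.smul (NonAbH1.GSheaf.toGrp (g.1 U)) (c.1 U) = c'.1 U := by
  have tor := isTorsor_of_isFibreOver hu hQ hT
  obtain ⟨ι, hinj, himg, heq⟩ := hT
  obtain ⟨ι', hinj', himg', heq'⟩ := hT'
  let A : ∀ {U : Cᵒᵖ}, T.P.obj.obj U → G.obj.obj U := fun {U} t =>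
    NonAbH1.GSheaf.toGrp (ι'.hom.app U (e.hom.hom.hom.app U t)) *
      (NonAbH1.GSheaf.toGrp (ι.hom.app U t))⁻¹
  have indep : ∀ {U : Cᵒᵖ} (t t' : T.P.obj.obj U), A t = A t' := by
    intro U t t'
    obtain ⟨f, rfl, -⟩ := tor.1 U t t'
    simp only [A]
    rw [e.hom.map_smul, heq', heq, mul_inv_rev, inv_inv, mul_assoc, inv_mul_cancel_left]
  have Anat : ∀ {U V : Cᵒᵖ} (a : U ⟶ V) (t : T.P.obj.obj U),
      G.obj.map a (A t) = A (T.P.obj.map a t) := by
    intro U V a t
    simp only [A]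
    rw [map_mul, map_inv]
    congr 1
    · refine (NatTrans.naturality_apply ι'.hom a _).symm.trans ?_
      exact congrArg (fun z => NonAbH1.GSheaf.toGrp (ι'.hom.app V z))
        (NatTrans.naturality_apply e.hom.hom.hom a t).symm
    · exact congrArg (·⁻¹) (NatTrans.naturality_apply ι.hom a t).symm
  choose S hS hne using tor.2
  choose g hg hgu using fun U : C => existsUnique_glue_grp G (S U) (hS U)
    (fun V a h => A (hne U a h).some)
    (fun V W d a h => (Anat d.op _).trans (indep _ _))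
  have hA : ∀ (U : C) (t : T.P.obj.obj (op U)), g U = A t := fun U t =>
    (hgu U _ fun V a h => (Anat a.op t).trans (indep _ _)).symm
  refine ⟨⟨fun U => NonAbH1.GSheaf.ofGrp (g U.unop), fun {U V} a => ?_⟩, fun U => ?_⟩
  · show G.obj.map a (g U.unop) = g V.unop
    refine ext_on_sieve_grp G _ (hS V.unop) fun W b hb => ?_
    have t := (hne V.unop b hb).some
    refine (map_comp_grp G.obj a.unop b (g U.unop)).trans (Eq.trans ?_ (hg V.unop b hb).symm)
    refine Eq.trans ?_ (indep t _)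
    refine ext_on_sieve_grp G _ (J.pullback_stable (b ≫ a.unop) (hS U.unop)) fun W' d hd => ?_
    rw [map_comp_grp, hg U.unop (d ≫ b ≫ a.unop) hd, Anat]
    exact indep _ _
  · show Q.smul (g U.unop) (c.1 U) = c'.1 U
    refine ext_on_sieve Q.P _ (hS U.unop) fun V a h => ?_
    rw [Q.map_smul, hg U.unop a h]
    refine Eq.trans ?_ (c'.2 a.op).symm
    rw [show Q.P.obj.map a.op (c.1 U) = c.1 (op V) from c.2 a.op,
      ← (himg (op V) _).mp ⟨(hne U.unop a h).some, rfl⟩]
    refine (pi_smul π _ _).symm.trans ?_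
    simp only [A]
    rw [inv_mul_cancel_right]
    exact (himg' (op V) _).mp ⟨_, rfl⟩

end Groth.Agent.Lib.NAH1.Fibre
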